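import Groth.Agent.Lib.KoszulMod.Basic
import Groth.Agent.Lib.LC.Torsion
import Groth.Agent.S11313
import Mathlib.Algebra.Colimit.Module

/-!
# The direct limit of the Koszul cohomology of powers: bottom degree and injective modules
-/

universe u

open CategoryTheory Limits CohIII CochainComplex GrothLib.KoszulMod

namespace GrothLib.KoszulLim

variable {A : Type u} [CommRing A]

section Cls

variable {C D : CochainComplex (ModuleCat.{u} A) ℤ}

theorem exists_cycle (i k : ℤ) (hk : i + 1 = k) (x : C.homology i) :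
    ∃ c : C.cycles i, (C.homologyπ i).hom c = x ∧ (C.d i k).hom ((C.iCycles i).hom c) = 0 := by
  obtain ⟨c, hc⟩ := (ModuleCat.epi_iff_surjective (C.homologyπ i)).1 inferInstance x
  exact ⟨c, hc, congrArg (fun g => g.hom c) (C.iCycles_d i k)⟩

theorem exists_cycles_lift {i k : ℤ} (hk : i + 1 = k) {z : C.X i} (hz : (C.d i k).hom z = 0) :
    ∃ c : C.cycles i, (C.iCycles i).hom c = z :=
  (ShortComplex.moduleCat_exact_iff _).1
    (ShortComplex.exact_of_f_is_kernel (ShortComplex.mk _ _ (C.iCycles_d i k))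
      (C.cyclesIsKernel i k (by simp [hk]))) z hz

theorem π_eq_zero_iff {i j : ℤ} (hj : j + 1 = i) (c : C.cycles i) :
    (C.homologyπ i).hom c = 0 ↔ ∃ w, (C.d j i).hom w = (C.iCycles i).hom c := by
  have hi : Function.Injective (C.iCycles i).hom := (ModuleCat.mono_iff_injective _).1 inferInstance
  constructor
  · intro h
    obtain ⟨w, hw⟩ := (ShortComplex.moduleCat_exact_iff _).1
      (ShortComplex.exact_of_g_is_cokernel (ShortComplex.mk _ _ (C.toCycles_comp_homologyπ j i))
        (C.homologyIsCokernel j i (by simp; omega))) c h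
    exact ⟨w, (congrArg (fun g => g.hom w) (C.toCycles_i j i)).symm.trans (congrArg (C.iCycles i).hom hw)⟩
  · rintro ⟨w, hw⟩
    rw [hi (hw.symm.trans (congrArg (fun g => g.hom w) (C.toCycles_i j i)).symm)]
    exact congrArg (fun g => g.hom w) (C.toCycles_comp_homologyπ j i)

theorem homologyMap_π (φ : C ⟶ D) (i : ℤ) (c : C.cycles i) :
    (HomologicalComplex.homologyMap φ i).hom ((C.homologyπ i).hom c) =
      (D.homologyπ i).hom ((HomologicalComplex.cyclesMap φ i).hom c) :=
  congrArg (fun g => g.hom c) (HomologicalComplex.homologyπ_naturality φ i)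

theorem cyclesMap_i (φ : C ⟶ D) (i : ℤ) (c : C.cycles i) :
    (D.iCycles i).hom ((HomologicalComplex.cyclesMap φ i).hom c) = (φ.f i).hom ((C.iCycles i).hom c) :=
  congrArg (fun g => g.hom c) (HomologicalComplex.cyclesMap_i φ i)

end Cls

variable (M : ModuleCat.{u} A)

/-- The Koszul complex on the `n`-th powers. -/
noncomputable abbrev kp (fs : List A) (n : ℕ) : CochainComplex (ModuleCat.{u} A) ℤ :=
  koszulCx M (fs.map (· ^ n))

theorem p₁_trans (f : A) (fs : List A) {n m : ℕ} (h : n ≤ m) (i j : ℤ) (hij : i + 1 = j)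
    (x : (cone (kp M fs n) (f ^ n)).X i) :
    (p₁ (kp M fs m) (f ^ m) i j hij).hom (((koszulTrans M n m h (f :: fs)).f i).hom x) =
      ((koszulTrans M n m h fs).f j).hom ((p₁ (kp M fs n) (f ^ n) i j hij).hom x) := by
  suffices H : (koszulTrans M n m h (f :: fs)).f i ≫ p₁ (kp M fs m) (f ^ m) i j hij =
      p₁ (kp M fs n) (f ^ n) i j hij ≫ (koszulTrans M n m h fs).f j from congrArg (fun g => g.hom x) H
  exact map_fst _ _ _ _ _ i j hij

theorem p₂_trans (f : A) (fs : List A) {n m : ℕ} (h : n ≤ m) (i : ℤ)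
    (x : (cone (kp M fs n) (f ^ n)).X i) :
    (p₂ (kp M fs m) (f ^ m) i).hom (((koszulTrans M n m h (f :: fs)).f i).hom x) =
      f ^ (m - n) • ((koszulTrans M n m h fs).f i).hom ((p₂ (kp M fs n) (f ^ n) i).hom x) := by
  suffices H : (koszulTrans M n m h (f :: fs)).f i ≫ p₂ (kp M fs m) (f ^ m) i =
      p₂ (kp M fs n) (f ^ n) i ≫ (f ^ (m - n) • koszulTrans M n m h fs).f i from
    congrArg (fun g => g.hom x) H
  exact map_snd _ _ _ _ _ i

theorem trans_trans : ∀ (fs : List A) {n m k : ℕ} (h : n ≤ m) (h' : m ≤ k) (i : ℤ) (x : (kp M fs n).X i),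
    ((koszulTrans M m k h' fs).f i).hom (((koszulTrans M n m h fs).f i).hom x) =
      ((koszulTrans M n k (h.trans h') fs).f i).hom x := by
  intro fs
  induction fs with
  | nil => intros; rfl
  | cons f fs ih =>
    intro n m k h h' i x
    refine cone_ext (kp M fs k) (f ^ k) i (i + 1) rfl ?_ ?_
    · erw [p₁_trans, p₁_trans, p₁_trans, ih]
    · erw [p₂_trans, p₂_trans, p₂_trans, map_smul, ih, smul_smul, ← pow_add,
        show k - m + (m - n) = k - n by omega]

theorem trans_self : ∀ (fs : List A) (n : ℕ) (i : ℤ) (x : (kp M fs n).X i),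
    ((koszulTrans M n n le_rfl fs).f i).hom x = x := by
  intro fs
  induction fs with
  | nil => intros; rfl
  | cons f fs ih =>
    intro n i x
    refine cone_ext (kp M fs n) (f ^ n) i (i + 1) rfl ?_ ?_
    · erw [p₁_trans, ih]
    · erw [p₂_trans, ih, Nat.sub_self, pow_zero, one_smul]

/-- The bottom degree term is the module. -/
noncomputable def bot (n : ℕ) : ∀ (fs : List A) (j : ℤ), j = -(fs.length : ℤ) → ((kp M fs n).X j →ₗ[A] M)
  | [], j, h => (HomologicalComplex.singleObjXIsoOfEq (ComplexShape.up ℤ) 0 M j (by simpa using h)).hom.hom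
  | f :: fs, j, h => (bot n fs (j + 1) (by simp at h ⊢; omega)) ∘ₗ (p₁ (kp M fs n) (f ^ n) j (j + 1) rfl).hom

theorem bot_bijective (n : ℕ) : ∀ (fs : List A) (j : ℤ) (h : j = -(fs.length : ℤ)),
    Function.Bijective (bot M n fs j h) := by
  intro fs
  induction fs with
  | nil =>
    intro j h
    exact (HomologicalComplex.singleObjXIsoOfEq (ComplexShape.up ℤ) 0 M j (by simpa using h)).toLinearEquiv.bijective
  | cons f fs ih =>
    intro j h
    have hb := ih (j + 1) (by simp at h ⊢; omega)
    refine ⟨fun x y hxy => cone_ext (kp M fs n) (f ^ n) j (j + 1) rfl (hb.1 hxy) ?_, fun m => ?_⟩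
    · exact (eq_zero_out M _ j (Or.inr (by simp at h ⊢; omega)) _).trans
        (eq_zero_out M _ j (Or.inr (by simp at h ⊢; omega)) _).symm
    · obtain ⟨a, ha⟩ := hb.2 m
      exact ⟨(i₁ (kp M fs n) (f ^ n) j (j + 1) rfl).hom a, (congrArg _ (p₁_i₁ _ _ _ _ _ a)).trans ha⟩

theorem bot_trans {n m : ℕ} (hnm : n ≤ m) : ∀ (fs : List A) (j : ℤ) (h : j = -(fs.length : ℤ))
    (x : (kp M fs n).X j),
    bot M m fs j h (((koszulTrans M n m hnm fs).f j).hom x) = bot M n fs j h x := by
  intro fs
  induction fs with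
  | nil => intros; rfl
  | cons f fs ih =>
    intro j h x
    show bot M m fs (j + 1) _ ((p₁ (kp M fs m) (f ^ m) j (j + 1) rfl).hom _) = _
    erw [p₁_trans, ih]
    rfl

theorem bot_cycle_iff (n : ℕ) : ∀ (fs : List A) (j k : ℤ) (h : j = -(fs.length : ℤ)), j + 1 = k →
    ∀ x : (kp M fs n).X j, ((kp M fs n).d j k).hom x = 0 ↔ ∀ g ∈ fs, g ^ n • bot M n fs j h x = 0 := by
  intro fs
  induction fs with
  | nil =>
    intro j k h hk x
    simp only [List.not_mem_nil, IsEmpty.forall_iff, implies_true, iff_true]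
    exact eq_zero_out M _ k (Or.inl (by simp at h; omega)) _
  | cons f fs ih =>
    intro j k h hk x
    subst hk
    let a := (p₁ (kp M fs n) (f ^ n) j (j + 1) rfl).hom x
    have hb0 : (p₂ (kp M fs n) (f ^ n) j).hom x = 0 :=
      eq_zero_out M _ j (Or.inr (by simp at h ⊢; omega)) _
    have e2 : (p₂ (kp M fs n) (f ^ n) (j + 1)).hom (((cone (kp M fs n) (f ^ n)).d j (j + 1)).hom x) =
        f ^ n • a := by
      rw [p₂_d (kp M fs n) (f ^ n) j (j + 1) rfl, hb0, map_zero, add_zero]
    have e1 := p₁_d (kp M fs n) (f ^ n) j (j + 1) (j + 1 + 1) rfl rfl x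
    have h' : j + 1 = -(fs.length : ℤ) := by simp at h ⊢; omega
    have hb := bot_bijective M n fs (j + 1) h'
    rw [List.forall_mem_cons]
    show _ ↔ (f ^ n • bot M n fs (j + 1) h' a = 0 ∧ ∀ g ∈ fs, g ^ n • bot M n fs (j + 1) h' a = 0)
    rw [← ih (j + 1) (j + 1 + 1) h' rfl a]
    constructor
    · intro hx
      refine ⟨?_, ?_⟩
      · rw [← map_smul, ← e2]
        erw [hx, map_zero, map_zero]
      · erw [hx, map_zero] at e1
        exact neg_eq_zero.1 e1.symm
    · rintro ⟨h1, h2⟩
      refine cone_ext (kp M fs n) (f ^ n) (j + 1) (j + 1 + 1) rfl ?_ ?_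
      · erw [map_zero, e1, h2, neg_zero]
      · erw [map_zero, e2]
        exact hb.1 (by rw [map_smul, h1, map_zero])

/-- Positive degree classes on an injective module die along the system. -/
theorem exists_boundary [IsNoetherianRing A] (E : ModuleCat.{u} A) [Module.Injective A E] :
    ∀ (fs : List A) (i j k : ℤ), i + 1 = j → j + 1 = k → -(fs.length : ℤ) < j →
      ∀ (n : ℕ) (z : (kp E fs n).X j), ((kp E fs n).d j k).hom z = 0 →
      ∃ (m : ℕ) (hnm : n ≤ m) (w : (kp E fs m).X i),
        ((kp E fs m).d i j).hom w = ((koszulTrans E n m hnm fs).f j).hom z := by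
  intro fs
  induction fs with
  | nil =>
    intro i j k _ _ hj n z _
    exact ⟨n, le_rfl, 0, by rw [map_zero, eq_zero_out E _ j (Or.inl (by simp at hj; omega)) z, map_zero]⟩
  | cons f fs ih =>
    intro i j k hi hk hj n z hz
    subst hk
    have hj' : -(fs.length : ℤ) ≤ j := by simp at hj; omega
    let a := (p₁ (kp E fs n) (f ^ n) j (j + 1) rfl).hom z
    let b := (p₂ (kp E fs n) (f ^ n) j).hom z
    have hda : ((kp E fs n).d (j + 1) (j + 1 + 1)).hom a = 0 := by
      have e := p₁_d (kp E fs n) (f ^ n) j (j + 1) (j + 1 + 1) rfl rfl z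
      erw [hz, map_zero] at e
      exact neg_eq_zero.1 e.symm
    have hdb : f ^ n • a + ((kp E fs n).d j (j + 1)).hom b = 0 := by
      have e := p₂_d (kp E fs n) (f ^ n) j (j + 1) rfl z
      erw [hz, map_zero] at e
      exact e.symm
    obtain ⟨m, hnm, c, hc⟩ := ih j (j + 1) (j + 1 + 1) rfl rfl (by omega) n a hda
    -- replace the class by one concentrated in the second summand
    let b' := f ^ (m - n) • ((koszulTrans E n m hnm fs).f j).hom b + f ^ m • c
    have hdb' : ((kp E fs m).d j (j + 1)).hom b' = 0 := by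
      simp only [b', map_add, map_smul, hc]
      have e : ((kp E fs m).d j (j + 1)).hom (((koszulTrans E n m hnm fs).f j).hom b) =
          ((koszulTrans E n m hnm fs).f (j + 1)).hom (((kp E fs n).d j (j + 1)).hom b) :=
        congrArg (fun g => g.hom b) ((koszulTrans E n m hnm fs).comm j (j + 1))
      rw [e, eq_neg_of_add_eq_zero_right hdb, map_neg, map_smul, smul_neg, smul_smul, ← pow_add,
        Nat.sub_add_cancel hnm, neg_add_cancel]
    suffices h : ∃ (l : ℕ) (hml : m ≤ l) (e₁ : (kp E fs l).X j) (e₂ : (kp E fs l).X i),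
        ((kp E fs l).d j (j + 1)).hom e₁ = 0 ∧
          f ^ l • e₁ + ((kp E fs l).d i j).hom e₂ =
            f ^ (l - m) • ((koszulTrans E m l hml fs).f j).hom b' by
      obtain ⟨l, hml, e₁, e₂, he₁, he⟩ := h
      let c' := ((koszulTrans E m l hml fs).f j).hom c
      have hc' : ((kp E fs l).d j (j + 1)).hom c' = ((koszulTrans E n l (hnm.trans hml) fs).f (j + 1)).hom a := by
        rw [← trans_trans E fs hnm hml, ← hc]
        exact congrArg (fun g => g.hom c) ((koszulTrans E m l hml fs).comm j (j + 1))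
      refine ⟨l, hnm.trans hml, (i₁ (kp E fs l) (f ^ l) i j hi).hom (e₁ - c') +
        (i₂ (kp E fs l) (f ^ l) i).hom e₂,
        cone_ext (kp E fs l) (f ^ l) j (j + 1) rfl ?_ ?_⟩
      · refine (p₁_d (kp E fs l) (f ^ l) i j (j + 1) hi rfl _).trans ?_
        rw [map_add, p₁_i₁, p₁_i₂, add_zero, map_sub, he₁, hc', zero_sub, neg_neg]
        exact (p₁_trans E f fs (hnm.trans hml) j (j + 1) rfl z).symm
      · refine (p₂_d (kp E fs l) (f ^ l) i j hi _).trans ?_
        rw [map_add, map_add, p₁_i₁, p₁_i₂, p₂_i₁, p₂_i₂, add_zero, zero_add, smul_sub,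
          sub_add_eq_add_sub, he, map_add, map_smul, map_smul, trans_trans, smul_add, smul_smul, ← pow_add,
          show l - m + (m - n) = l - n by omega, smul_smul, ← pow_add, Nat.sub_add_cancel hml,
          add_sub_cancel_right]
        exact (p₂_trans E f fs (hnm.trans hml) j z).symm
    rcases hj'.lt_or_eq with hlt | heq
    · obtain ⟨l, hml, w, hw⟩ := ih i j (j + 1) hi rfl hlt m b' hdb'
      exact ⟨l, hml, 0, f ^ (l - m) • w, map_zero _, by rw [smul_zero, zero_add, map_smul, hw]⟩
    · -- the bottom degree: divide inside the torsion submodule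
      let J : Ideal A := Ideal.span {x | x ∈ fs}
      have hy : ∀ g ∈ fs, g ^ m • bot E m fs j heq.symm b' = 0 := (bot_cycle_iff E m fs j _ heq.symm rfl b').1 hdb'
      have hyJ : bot E m fs j heq.symm b' ∈ DRing.torsionSub J E := by
        obtain ⟨N, hN⟩ := Ideal.exists_pow_le_of_le_radical_of_fg
          (show J ≤ (Ideal.torsionOf A E (bot E m fs j heq.symm b')).radical from
            Ideal.span_le.2 fun g hg => ⟨m, hy g hg⟩)
          (Submodule.fg_span (List.finite_toSet fs))
        exact ⟨N, fun x hx => hN hx⟩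
      haveI : Module.Injective A (DRing.torsionSub J E) := GrothLib.LC.injective_torsionSub J E
      obtain ⟨⟨w, hw⟩, hwy⟩ := Groth.Agent.S11313.result A (DRing.torsionSub J E) f
        (LocalizedModule.mk (⟨_, hyJ⟩ : DRing.torsionSub J E) ⟨f ^ m, m, rfl⟩)
      rw [LocalizedModule.mkLinearMap_apply, LocalizedModule.mk_eq] at hwy
      obtain ⟨⟨_, t, rfl⟩, hwy⟩ := hwy
      have hwy' : f ^ (t + m) • w = f ^ t • bot E m fs j heq.symm b' := by
        have := congrArg Subtype.val hwy
        simpa [Submonoid.smul_def, smul_smul, ← pow_add] using this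
      obtain ⟨N, hN⟩ := hw
      let l := m + t + N
      obtain ⟨e, he⟩ := (bot_bijective E l fs j heq.symm).2 w
      refine ⟨l, by omega, e, 0, (bot_cycle_iff E l fs j _ heq.symm rfl e).2 fun g hg => ?_, ?_⟩
      · rw [he, show l = (m + t) + N from rfl, pow_add, mul_smul,
          hN _ (Ideal.pow_mem_pow (Ideal.subset_span (show g ∈ {x | x ∈ fs} from hg)) N), smul_zero]
      · rw [map_zero, add_zero]
        refine (bot_bijective E l fs j heq.symm).1 ?_
        rw [map_smul, map_smul, he, bot_trans, show l = N + (t + m) by omega, pow_add, mul_smul, hwy',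
          smul_smul, ← pow_add, show N + (t + m) - m = N + t by omega]

/-- The colimit of Koszul cohomology vanishes in positive degrees on injectives. -/
theorem subsingleton_of_injective [IsNoetherianRing A] (fs : List A) (E : ModuleCat.{u} A)
    [Module.Injective A E] (i : ℕ) (hi : 0 < i) :
    Subsingleton (CohIII.koszulHLim fs E i) := by
  refine subsingleton_of_forall_eq 0 fun x => ?_
  obtain ⟨n, y, rfl⟩ := Module.DirectLimit.exists_of
    (G := fun n : ℕ => (koszulHPow fs E i n : Type u))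
    (f := fun n m h => (HomologicalComplex.homologyMap (koszulTrans E n m h fs) ((i : ℤ) - fs.length)).hom) x
  obtain ⟨c, rfl, hc⟩ := exists_cycle ((i : ℤ) - fs.length) _ rfl y
  obtain ⟨m, hnm, w, hw⟩ := exists_boundary E fs ((i : ℤ) - fs.length - 1) _ _ (sub_add_cancel _ 1) rfl (by omega) n _ hc
  refine (Module.DirectLimit.of_f (hij := hnm)).symm.trans ?_
  erw [homologyMap_π, (π_eq_zero_iff (C := kp E fs m) (sub_add_cancel _ 1) _).2 ⟨w, by rw [cyclesMap_i]; exact hw⟩,
    map_zero]
  rfl

end GrothLib.KoszulLim
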